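import Cfsg.Agent.H315.TC.HNWd
import Cfsg.Agent.H315.Spr.HNThree
import Cfsg.Agent.H981.TC.HNReps

/-!
# S4173, row `HN` (helper315): the elements of order 2, 3, 5 are products of an element of order 11 and one of order 19
-/

set_option autoImplicit false
set_option maxRecDepth 100000
set_option linter.unusedSimpArgs false

namespace Cfsg.Agent.H315.TcHN

open Subgroup Cfsg Cfsg.Agent.H839.Rad.Ext Cfsg.Agent.HN Cfsg.Agent.H609.TH Cfsg.Agent.H315.SpHN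

/-- a product of an element of order `11` and one of order `19` -/
def Wit (g : Spor.HN) : Prop := ∃ z1 z2 : Spor.HN, orderOf z1 = 11 ∧ orderOf z2 = 19 ∧ g = z1 * z2

theorem order_conj {z : Spor.HN} (t : Spor.HN) : orderOf (t * z * t⁻¹) = orderOf z :=
  orderOf_injective (MulAut.conj t).toMonoidHom (MulAut.conj t).injective z

theorem Wit.conj {x : Spor.HN} (t : Spor.HN) (h : Wit x) : Wit (t * x * t⁻¹) := by
  obtain ⟨z1, z2, h1, h2, rfl⟩ := h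
  exact ⟨t * z1 * t⁻¹, t * z2 * t⁻¹, by rw [order_conj, h1], by rw [order_conj, h2], by group⟩

theorem Wit.of_conj {x : Spor.HN} (t : Spor.HN) (h : Wit (t * x * t⁻¹)) : Wit x := by
  have h1 := h.conj t⁻¹
  have h2 : t⁻¹ * (t * x * t⁻¹) * t⁻¹⁻¹ = x := by group
  rwa [h2] at h1

theorem Wit.of_isConj {x y : Spor.HN} (h : IsConj x y) (hx : Wit x) : Wit y := by
  obtain ⟨c, hc⟩ := isConj_iff.1 h
  rw [← hc]
  exact hx.conj c

theorem Wit.inv {x : Spor.HN} (h : Wit x) : Wit x⁻¹ := by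
  obtain ⟨z1, z2, h1, h2, rfl⟩ := h
  refine ⟨z2⁻¹ * z1⁻¹ * z2⁻¹⁻¹, z2⁻¹, by rw [order_conj, orderOf_inv, h1], by rw [orderOf_inv, h2], by group⟩

/-- the criterion for conjugates of `u` -/
theorem wit_of {g w : Spor.HN} {p : ℕ} (hg : g ^ p = 1) (hp : ¬ 11 ∣ p) (h : (w * Wa.u * w⁻¹ * g) ^ 19 = 1) : Wit g := by
  have : Fact (Nat.Prime 19) := ⟨by norm_num⟩
  have ho : orderOf (w * Wa.u * w⁻¹) = 11 := by rw [order_conj, order_u]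
  refine ⟨(w * Wa.u * w⁻¹)⁻¹, w * Wa.u * w⁻¹ * g, by rw [orderOf_inv, ho], orderOf_eq_prime h fun h1 => ?_, by group⟩
  have h2 : g = (w * Wa.u * w⁻¹)⁻¹ := eq_inv_of_mul_eq_one_right h1
  have h3 : orderOf g = 11 := by rw [h2, orderOf_inv, ho]
  exact hp (by rw [← h3]; exact orderOf_dvd_of_pow_eq_one hg)

/-! ### order `2` -/

theorem wit_2 {g : Spor.HN} (hg : orderOf g = 2) : Wit g := by
  rcases Cfsg.Agent.KFacts.HN.Classes.inv_class hg with h | h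
  · obtain ⟨c, hc⟩ := isConj_iff.1 h
    apply Wit.of_conj c
    rw [hc]
    have h1 : Cfsg.Agent.HN.NormalH.ψ Cfsg.Agent.HN.H0Basic.τ = Rep.x * Rep.x := by
      rw [← Cfsg.Agent.HN.H0Basic.hw_τ, Cfsg.Agent.HN.XWords.V_hw (by decide +kernel)]
      simp only [Cfsg.Agent.HN.XWords.V_cons, Cfsg.Agent.HN.XWords.V_nil, mul_one]
      rfl
    have h2 : (Rep.x * Rep.x) ^ 2 = 1 := by
      rw [← h1, ← hc, conj_pow, ← hg, pow_orderOf_eq_one, mul_one, mul_inv_cancel]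
    rw [h1]
    exact wit_of (w := Rep.t * Rep.z) h2 (by norm_num)
      (by simpa only [mul_inv_rev, mul_assoc] using Wa.r_x2)
  · obtain ⟨c, hc⟩ := isConj_iff.1 h
    apply Wit.of_conj c
    rw [hc]
    have h1 : Cfsg.Agent.HN.XWords.W0 = Rep.y * (Rep.y * (Rep.y * (Rep.x * Rep.x))) := by
      simp only [Cfsg.Agent.HN.XWords.W0, Cfsg.Agent.HN.XWords.w0w, Cfsg.Agent.HN.XWords.V_cons,
        Cfsg.Agent.HN.XWords.V_nil, mul_one]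
      rfl
    have h2 : (Rep.y * (Rep.y * (Rep.y * (Rep.x * Rep.x)))) ^ 2 = 1 := by
      rw [← h1, ← hc, conj_pow, ← hg, pow_orderOf_eq_one, mul_one, mul_inv_cancel]
    rw [h1]
    exact wit_of (w := Rep.z * Rep.t⁻¹) h2 (by norm_num)
      (by simpa only [mul_inv_rev, mul_assoc, inv_inv] using Wa.r_W0)

/-! ### order `5` -/

section

open Cfsg.Agent.H839.Rad.HN (W A B C₁ D F)

theorem wit_of_isConj {x r : Spor.HN} {p : ℕ} (w : Spor.HN) (hx : orderOf x = p) (hp : ¬ 11 ∣ p) (h : IsConj r x)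
    (hc : (w * Wa.u * w⁻¹ * r) ^ 19 = 1) : Wit x := by
  obtain ⟨c, rfl⟩ := isConj_iff.1 h
  refine (wit_of (p := p) (w := w) ?_ hp hc).conj c
  rw [← hx, order_conj, pow_orderOf_eq_one]

theorem wit_5 {x : Spor.HN} (hx : orderOf x = 5) : Wit x := by
  rcases Cfsg.Agent.H981.TC.HNFive.five_words hx with h | h | h | h | h | h | h
  · exact wit_of_isConj (Rep.z * Rep.x) hx (by norm_num) h (by simpa only [mul_inv_rev, mul_assoc] using Wa.r_A)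
  · refine wit_of_isConj Rep.x hx (by norm_num) h ?_
    have h : (Rep.x * (Wa.u * (Rep.x⁻¹ * (A * A)))) ^ 19 = 1 := Wd.r_AA
    simpa only [mul_inv_rev, mul_assoc] using h
  · exact wit_of_isConj Rep.x hx (by norm_num) h (by simpa only [mul_inv_rev, mul_assoc] using Wa.r_D)
  · refine wit_of_isConj Rep.z hx (by norm_num) h ?_
    have h : (Rep.z * (Wa.u * (Rep.z⁻¹ * C₁))) ^ 19 = 1 := Wb.r_C
    simpa only [mul_inv_rev, mul_assoc] using h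
  · refine wit_of_isConj Rep.y hx (by norm_num) h ?_
    have h : (Rep.y * (Wa.u * (Rep.y⁻¹ * (C₁ * C₁)))) ^ 19 = 1 := Wd.r_CC
    simpa only [mul_inv_rev, mul_assoc] using h
  · refine wit_of_isConj Rep.x⁻¹ hx (by norm_num) h ?_
    have h : (Rep.x⁻¹ * (Wa.u * (Rep.x * (B * (D * D))))) ^ 19 = 1 := Wb.r_BDD
    simpa only [mul_inv_rev, mul_assoc, inv_inv] using h
  · refine wit_of_isConj 1 hx (by norm_num) h ?_
    have h : (Wa.u * (B * (C₁ * (C₁ * (C₁ * D))))) ^ 19 = 1 := Wd.r_BCCCD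
    simpa only [inv_one, one_mul, mul_one, mul_assoc] using h

end

/-! ### order `3` -/

section

open Cfsg.Agent.H285.HN3 Cfsg.Agent.H315.SpHN.Three

/-- an element of order `3` is good -/
def V3 (x : Spor.HN) : Prop := x ^ 3 = 1 → Wit x

theorem V3.of_sq {x : Spor.HN} (h : V3 (x ^ 2)) : V3 x := fun hx => by
  have h1 : x ^ 2 = x⁻¹ := by
    rw [eq_inv_iff_mul_eq_one, ← pow_succ, hx]
  have h2 := (h (by rw [← pow_mul, mul_comm, pow_mul, hx, one_pow])).inv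
  rwa [h1, inv_inv] at h2

theorem V3.of_conj {x : Spor.HN} (t : Spor.HN) (h : V3 (t * x * t⁻¹)) : V3 x := fun hx =>
  Wit.of_conj t (h (by rw [conj_pow, hx, mul_one, mul_inv_cancel]))

/-- the criterion for conjugates of `u` -/
theorem v3_of {g w : Cfsg.Spor.HN} (h : (w * Wa.u * w⁻¹ * g) ^ 19 = 1) : V3 g :=
  fun hg => wit_of hg (by norm_num) h

theorem move1 (g v : ℕ) (h : ∀ m, V3 (nv (mv1 g v) m)) : ∀ m, V3 (nv v m) := by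
  rcases g with _ | g
  · intro m
    apply V3.of_conj F
    obtain ⟨m', hm⟩ := conj_F (d0 v) (d1 v) (d2 v) (d3 v) m
    rw [nv, hm]
    have h1 := h m'
    have h2 : mv1 0 v = en (d0 v) (d1 v + d0 v) (d2 v) (d3 v + 2 * d2 v) := rfl
    rw [h2, ← nf_en] at h1
    push_cast at h1
    exact h1
  · intro m
    apply V3.of_sq
    obtain ⟨e, -, h1⟩ := ext.nf_pow (d0 v) (d1 v) (d2 v) (d3 v) m 2
    rw [nv, h1]
    have h2 : mv1 (g + 1) v = en (2 * d0 v) (2 * d1 v) (2 * d2 v) (2 * d3 v) := rfl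
    have h3 := h (((2 : ℕ) : ℤ) * m - e * ((d0 v : ℤ) * (d1 v : ℤ) + (d2 v : ℤ) * (d3 v : ℤ)))
    rw [h2, ← nf_en] at h3
    push_cast at h3 ⊢
    exact h3

/-- the central part of a normal form can be changed by conjugation -/
theorem rep_all {r0 r1 r2 r3 : ℤ} (s0 s1 s2 s3 : ℤ) (hω : s0 * r1 - r0 * s1 + s2 * r3 - r2 * s3 = 1)
    (h : V3 (nf W A B C₁ D r0 r1 r2 r3 0)) (m : ℤ) : V3 (nf W A B C₁ D r0 r1 r2 r3 m) := by
  apply V3.of_conj (nf W A B C₁ D (-m * s0) (-m * s1) (-m * s2) (-m * s3) 0)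
  rw [ext.nf_mul_comm, mul_assoc (W ^ _), mul_inv_cancel_right]
  have h1 : -m * s0 * r1 - r0 * (-m * s1) + -m * s2 * r3 - r2 * (-m * s3) = -m := by
    linear_combination (-m) * hω
  rw [h1]
  have h2 : W ^ (-m) = nf W A B C₁ D 0 0 0 0 (-m) := by simp [nf]
  rw [h2, ext.nf_mul]
  have h3 : nf W A B C₁ D (0 + r0) (0 + r1) (0 + r2) (0 + r3) (-m + m - r0 * 0 - r2 * 0) =
      nf W A B C₁ D r0 r1 r2 r3 0 := by
    congr 1 <;> ring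
  rw [h3]
  exact h

/-- conjugation by `B` -/
theorem conj_B (i u m : ℤ) : B * (nf W A B C₁ D i 0 u 0 m * F) * B⁻¹ = nf W A B C₁ D i 0 u 0 (m - i) * F := by
  have h3 : B = nf W A B C₁ D 0 1 0 0 0 := by simp [nf]
  have h1 : F * B⁻¹ = B⁻¹ * F := by
    have h2 : F * B⁻¹ * F⁻¹ = B⁻¹ := by
      calc F * B⁻¹ * F⁻¹ = (F * B * F⁻¹)⁻¹ := by group
        _ = B⁻¹ := by rw [F_B]
    calc F * B⁻¹ = F * B⁻¹ * F⁻¹ * F := by group
      _ = B⁻¹ * F := by rw [h2]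
  calc B * (nf W A B C₁ D i 0 u 0 m * F) * B⁻¹ = B * nf W A B C₁ D i 0 u 0 m * (F * B⁻¹) := by group
    _ = (B * nf W A B C₁ D i 0 u 0 m) * B⁻¹ * F := by rw [h1]; group
    _ = W ^ (0 * 0 - i * 1 + 0 * 0 - u * 0) * (nf W A B C₁ D i 0 u 0 m * B) * B⁻¹ * F := by
        nth_rewrite 1 [h3]
        rw [ext.nf_mul_comm, ← h3]
    _ = W ^ (-i) * nf W A B C₁ D i 0 u 0 m * F := by
        rw [show (0 * 0 - i * 1 + 0 * 0 - u * 0 : ℤ) = -i by ring]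
        group
    _ = _ := by
        have h5 : W ^ (-i) = nf W A B C₁ D 0 0 0 0 (-i) := by simp [nf]
        rw [h5, ext.nf_mul]
        congr 1
        exact nf_eq (by ring) (by ring) (by ring) (by ring) (by ring)

/-- conjugation by `D` -/
theorem conj_D (i u m : ℤ) : D * (nf W A B C₁ D i 0 u 0 m * F) * D⁻¹ = nf W A B C₁ D i 0 u 0 (m - u) * F := by
  have h3 : D = nf W A B C₁ D 0 0 0 1 0 := by simp [nf]
  have h1 : F * D⁻¹ = D⁻¹ * F := by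
    have h2 : F * D⁻¹ * F⁻¹ = D⁻¹ := by
      calc F * D⁻¹ * F⁻¹ = (F * D * F⁻¹)⁻¹ := by group
        _ = D⁻¹ := by rw [F_D]
    calc F * D⁻¹ = F * D⁻¹ * F⁻¹ * F := by group
      _ = D⁻¹ * F := by rw [h2]
  calc D * (nf W A B C₁ D i 0 u 0 m * F) * D⁻¹ = D * nf W A B C₁ D i 0 u 0 m * (F * D⁻¹) := by group
    _ = (D * nf W A B C₁ D i 0 u 0 m) * D⁻¹ * F := by rw [h1]; group
    _ = W ^ (0 * 0 - i * 0 + 0 * 0 - u * 1) * (nf W A B C₁ D i 0 u 0 m * D) * D⁻¹ * F := by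
        nth_rewrite 1 [h3]
        rw [ext.nf_mul_comm, ← h3]
    _ = W ^ (-u) * nf W A B C₁ D i 0 u 0 m * F := by
        rw [show (0 * 0 - i * 0 + 0 * 0 - u * 1 : ℤ) = -u by ring]
        group
    _ = _ := by
        have h5 : W ^ (-u) = nf W A B C₁ D 0 0 0 0 (-u) := by simp [nf]
        rw [h5, ext.nf_mul]
        congr 1
        exact nf_eq (by ring) (by ring) (by ring) (by ring) (by ring)

/-- conjugation by `S` -/
theorem conj_S (i u m : ℤ) : S * (nf W A B C₁ D i 0 u 0 m * F) * S⁻¹ = nf W A B C₁ D (-i) 0 (-u) 0 m * F := by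
  have h0 : ∀ i u m : ℤ, nf W A B C₁ D i 0 u 0 m = A ^ i * C₁ ^ u * W ^ m := by
    intro i u m
    simp [nf]
  rw [h0, h0]
  calc S * (A ^ i * C₁ ^ u * W ^ m * F) * S⁻¹ =
      (S * A * S⁻¹) ^ i * (S * C₁ * S⁻¹) ^ u * (S * W * S⁻¹) ^ m * (S * F * S⁻¹) := by
        rw [conj_zpow, conj_zpow, conj_zpow]; group
    _ = _ := by rw [S_A, S_C, S_W, S_F, inv_zpow, inv_zpow, zpow_neg, zpow_neg]


theorem g_ACCF : V3 (A * (C₁ * (C₁ * (F)))) := v3_of (w := 1) (by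
  have h : (Wa.u * (A * (C₁ * (C₁ * (F))))) ^ 19 = 1 := Ta.r_ACCF
  simpa only [inv_one, one_mul, mul_one, mul_assoc] using h)

theorem g_ACF : V3 (A * (C₁ * (F))) := v3_of (w := Rep.z * Rep.t⁻¹) (by
  have h : (Rep.z * (Rep.t⁻¹ * (Wa.u * (Rep.t * (Rep.z⁻¹ * (A * (C₁ * (F)))))))) ^ 19 = 1 := Ta.r_ACF
  simpa only [mul_inv_rev, mul_assoc, inv_inv] using h)

theorem g_F : V3 (F) := v3_of (w := Rep.y * Rep.z) (by
  have h : (Rep.y * (Rep.z * (Wa.u * (Rep.z⁻¹ * (Rep.y⁻¹ * (F)))))) ^ 19 = 1 := Ta.r_F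
  simpa only [mul_inv_rev, mul_assoc, inv_inv] using h)

theorem g_W : V3 (W) := v3_of (w := Rep.y) (by
  have h : (Rep.y * (Wa.u * (Rep.y⁻¹ * (W)))) ^ 19 = 1 := Ta.r_W
  simpa only [mul_inv_rev, mul_assoc, inv_inv] using h)

theorem g_WF : V3 (W * (F)) := v3_of (w := Rep.x⁻¹ * Rep.y) (by
  have h : (Rep.x⁻¹ * (Rep.y * (Wa.u * (Rep.y⁻¹ * (Rep.x * (W * (F))))))) ^ 19 = 1 := Ta.r_WF
  simpa only [mul_inv_rev, mul_assoc, inv_inv] using h)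

theorem g_WWF : V3 (W * (W * (F))) := v3_of (w := Rep.y⁻¹ * Rep.x * Rep.z) (by
  have h : (Rep.y⁻¹ * (Rep.x * (Rep.z * (Wa.u * (Rep.z⁻¹ * (Rep.x⁻¹ * (Rep.y * (W * (W * (F)))))))))) ^ 19 = 1 := Ta.r_WWF
  simpa only [mul_inv_rev, mul_assoc, inv_inv] using h)

theorem g_v0001 : V3 (D) := v3_of (w := Rep.t) (by
  have h : (Rep.t * (Wa.u * (Rep.t⁻¹ * (D)))) ^ 19 = 1 := Ta.r_v0001
  simpa only [mul_inv_rev, mul_assoc, inv_inv] using h)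

theorem g_v0010 : V3 (C₁) := v3_of (w := Rep.x) (by
  have h : (Rep.x * (Wa.u * (Rep.x⁻¹ * (C₁)))) ^ 19 = 1 := Ta.r_v0010
  simpa only [mul_inv_rev, mul_assoc, inv_inv] using h)

theorem g_v0100 : V3 (B) := v3_of (w := Rep.y) (by
  have h : (Rep.y * (Wa.u * (Rep.y⁻¹ * (B)))) ^ 19 = 1 := Ta.r_v0100
  simpa only [mul_inv_rev, mul_assoc, inv_inv] using h)

theorem g_v0101 : V3 (B * (D)) := v3_of (w := Rep.y * Rep.z) (by
  have h : (Rep.y * (Rep.z * (Wa.u * (Rep.z⁻¹ * (Rep.y⁻¹ * (B * (D))))))) ^ 19 = 1 := Ta.r_v0101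
  simpa only [mul_inv_rev, mul_assoc, inv_inv] using h)

theorem g_v0102 : V3 (B * (D * (D))) := v3_of (w := Rep.t) (by
  have h : (Rep.t * (Wa.u * (Rep.t⁻¹ * (B * (D * (D)))))) ^ 19 = 1 := Ta.r_v0102
  simpa only [mul_inv_rev, mul_assoc, inv_inv] using h)

theorem g_v0110 : V3 (B * (C₁)) := v3_of (w := Rep.z * Rep.t) (by
  have h : (Rep.z * (Rep.t * (Wa.u * (Rep.t⁻¹ * (Rep.z⁻¹ * (B * (C₁))))))) ^ 19 = 1 := Tb.r_v0110
  simpa only [mul_inv_rev, mul_assoc, inv_inv] using h)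

theorem g_v0120 : V3 (B * (C₁ * (C₁))) := v3_of (w := Rep.x * Rep.z) (by
  have h : (Rep.x * (Rep.z * (Wa.u * (Rep.z⁻¹ * (Rep.x⁻¹ * (B * (C₁ * (C₁)))))))) ^ 19 = 1 := Tb.r_v0120
  simpa only [mul_inv_rev, mul_assoc, inv_inv] using h)

theorem g_v1000 : V3 (A) := v3_of (w := Rep.y⁻¹) (by
  have h : (Rep.y⁻¹ * (Wa.u * (Rep.y * (A)))) ^ 19 = 1 := Tb.r_v1000
  simpa only [mul_inv_rev, mul_assoc, inv_inv] using h)

theorem g_v1001 : V3 (A * (D)) := v3_of (w := Rep.t * Rep.z) (by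
  have h : (Rep.t * (Rep.z * (Wa.u * (Rep.z⁻¹ * (Rep.t⁻¹ * (A * (D))))))) ^ 19 = 1 := Tb.r_v1001
  simpa only [mul_inv_rev, mul_assoc, inv_inv] using h)

theorem g_v1002 : V3 (A * (D * (D))) := v3_of (w := Rep.z) (by
  have h : (Rep.z * (Wa.u * (Rep.z⁻¹ * (A * (D * (D)))))) ^ 19 = 1 := Tb.r_v1002
  simpa only [mul_inv_rev, mul_assoc, inv_inv] using h)

theorem g_v1010 : V3 (A * (C₁)) := v3_of (w := Rep.z) (by
  have h : (Rep.z * (Wa.u * (Rep.z⁻¹ * (A * (C₁))))) ^ 19 = 1 := Tb.r_v1010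
  simpa only [mul_inv_rev, mul_assoc, inv_inv] using h)

theorem g_v1011 : V3 (A * (C₁ * (D))) := v3_of (w := Rep.y) (by
  have h : (Rep.y * (Wa.u * (Rep.y⁻¹ * (A * (C₁ * (D)))))) ^ 19 = 1 := Tb.r_v1011
  simpa only [mul_inv_rev, mul_assoc, inv_inv] using h)

theorem g_v1012 : V3 (A * (C₁ * (D * (D)))) := v3_of (w := Rep.x * Rep.x) (by
  have h : (Rep.x * (Rep.x * (Wa.u * (Rep.x⁻¹ * (Rep.x⁻¹ * (A * (C₁ * (D * (D))))))))) ^ 19 = 1 := Tb.r_v1012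
  simpa only [mul_inv_rev, mul_assoc, inv_inv] using h)

theorem g_v1020 : V3 (A * (C₁ * (C₁))) := v3_of (w := Rep.t) (by
  have h : (Rep.t * (Wa.u * (Rep.t⁻¹ * (A * (C₁ * (C₁)))))) ^ 19 = 1 := Tb.r_v1020
  simpa only [mul_inv_rev, mul_assoc, inv_inv] using h)

theorem g_v1021 : V3 (A * (C₁ * (C₁ * (D)))) := v3_of (w := Rep.x * Rep.z) (by
  have h : (Rep.x * (Rep.z * (Wa.u * (Rep.z⁻¹ * (Rep.x⁻¹ * (A * (C₁ * (C₁ * (D))))))))) ^ 19 = 1 := Tb.r_v1021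
  simpa only [mul_inv_rev, mul_assoc, inv_inv] using h)

theorem g_v1120 : V3 (A * (B * (C₁ * (C₁)))) := v3_of (w := Rep.y⁻¹) (by
  have h : (Rep.y⁻¹ * (Wa.u * (Rep.y * (A * (B * (C₁ * (C₁))))))) ^ 19 = 1 := Tb.r_v1120
  simpa only [mul_inv_rev, mul_assoc, inv_inv] using h)

theorem goodQ : ∀ v < 81, v ≠ 0 → ∀ m, V3 (nv v m) := by
  intro v hv h0
  refine all_of_rank (P := fun v => ∀ m, V3 (nv v m)) chk1 move1 ?_ _ v (Nat.lt_succ_self _) hv h0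
  intro v hv m
  simp only [List.mem_cons, List.not_mem_nil, or_false] at hv
  rcases hv with rfl | rfl | rfl | rfl | rfl | rfl | rfl | rfl | rfl | rfl | rfl | rfl | rfl | rfl | rfl | rfl
  · refine rep_all (r0 := ((d0 27 : ℕ) : ℤ)) (r1 := ((d1 27 : ℕ) : ℤ)) (r2 := ((d2 27 : ℕ) : ℤ)) (r3 := ((d3 27 : ℕ) : ℤ))
      0 0 1 0 (by decide) ?_ m
    have h : nf W A B C₁ D ((d0 27 : ℕ) : ℤ) ((d1 27 : ℕ) : ℤ) ((d2 27 : ℕ) : ℤ) ((d3 27 : ℕ) : ℤ) 0 = D := by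
      simp [nf, d0e, d1e, d2e, d3e, pow_two, mul_assoc]
    rw [h]
    exact g_v0001
  · refine rep_all (r0 := ((d0 9 : ℕ) : ℤ)) (r1 := ((d1 9 : ℕ) : ℤ)) (r2 := ((d2 9 : ℕ) : ℤ)) (r3 := ((d3 9 : ℕ) : ℤ))
      0 0 0 (-1) (by decide) ?_ m
    have h : nf W A B C₁ D ((d0 9 : ℕ) : ℤ) ((d1 9 : ℕ) : ℤ) ((d2 9 : ℕ) : ℤ) ((d3 9 : ℕ) : ℤ) 0 = C₁ := by
      simp [nf, d0e, d1e, d2e, d3e, pow_two, mul_assoc]
    rw [h]
    exact g_v0010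
  · refine rep_all (r0 := ((d0 3 : ℕ) : ℤ)) (r1 := ((d1 3 : ℕ) : ℤ)) (r2 := ((d2 3 : ℕ) : ℤ)) (r3 := ((d3 3 : ℕ) : ℤ))
      1 0 0 0 (by decide) ?_ m
    have h : nf W A B C₁ D ((d0 3 : ℕ) : ℤ) ((d1 3 : ℕ) : ℤ) ((d2 3 : ℕ) : ℤ) ((d3 3 : ℕ) : ℤ) 0 = B := by
      simp [nf, d0e, d1e, d2e, d3e, pow_two, mul_assoc]
    rw [h]
    exact g_v0100
  · refine rep_all (r0 := ((d0 1 : ℕ) : ℤ)) (r1 := ((d1 1 : ℕ) : ℤ)) (r2 := ((d2 1 : ℕ) : ℤ)) (r3 := ((d3 1 : ℕ) : ℤ))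
      0 (-1) 0 0 (by decide) ?_ m
    have h : nf W A B C₁ D ((d0 1 : ℕ) : ℤ) ((d1 1 : ℕ) : ℤ) ((d2 1 : ℕ) : ℤ) ((d3 1 : ℕ) : ℤ) 0 = A := by
      simp [nf, d0e, d1e, d2e, d3e, pow_two, mul_assoc]
    rw [h]
    exact g_v1000
  · refine rep_all (r0 := ((d0 30 : ℕ) : ℤ)) (r1 := ((d1 30 : ℕ) : ℤ)) (r2 := ((d2 30 : ℕ) : ℤ)) (r3 := ((d3 30 : ℕ) : ℤ))
      0 0 1 0 (by decide) ?_ m
    have h : nf W A B C₁ D ((d0 30 : ℕ) : ℤ) ((d1 30 : ℕ) : ℤ) ((d2 30 : ℕ) : ℤ) ((d3 30 : ℕ) : ℤ) 0 = B * (D) := by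
      simp [nf, d0e, d1e, d2e, d3e, pow_two, mul_assoc]
    rw [h]
    exact g_v0101
  · refine rep_all (r0 := ((d0 12 : ℕ) : ℤ)) (r1 := ((d1 12 : ℕ) : ℤ)) (r2 := ((d2 12 : ℕ) : ℤ)) (r3 := ((d3 12 : ℕ) : ℤ))
      0 0 0 (-1) (by decide) ?_ m
    have h : nf W A B C₁ D ((d0 12 : ℕ) : ℤ) ((d1 12 : ℕ) : ℤ) ((d2 12 : ℕ) : ℤ) ((d3 12 : ℕ) : ℤ) 0 = B * (C₁) := by
      simp [nf, d0e, d1e, d2e, d3e, pow_two, mul_assoc]
    rw [h]
    exact g_v0110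
  · refine rep_all (r0 := ((d0 28 : ℕ) : ℤ)) (r1 := ((d1 28 : ℕ) : ℤ)) (r2 := ((d2 28 : ℕ) : ℤ)) (r3 := ((d3 28 : ℕ) : ℤ))
      0 0 1 0 (by decide) ?_ m
    have h : nf W A B C₁ D ((d0 28 : ℕ) : ℤ) ((d1 28 : ℕ) : ℤ) ((d2 28 : ℕ) : ℤ) ((d3 28 : ℕ) : ℤ) 0 = A * (D) := by
      simp [nf, d0e, d1e, d2e, d3e, pow_two, mul_assoc]
    rw [h]
    exact g_v1001
  · refine rep_all (r0 := ((d0 10 : ℕ) : ℤ)) (r1 := ((d1 10 : ℕ) : ℤ)) (r2 := ((d2 10 : ℕ) : ℤ)) (r3 := ((d3 10 : ℕ) : ℤ))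
      0 0 0 (-1) (by decide) ?_ m
    have h : nf W A B C₁ D ((d0 10 : ℕ) : ℤ) ((d1 10 : ℕ) : ℤ) ((d2 10 : ℕ) : ℤ) ((d3 10 : ℕ) : ℤ) 0 = A * (C₁) := by
      simp [nf, d0e, d1e, d2e, d3e, pow_two, mul_assoc]
    rw [h]
    exact g_v1010
  · refine rep_all (r0 := ((d0 57 : ℕ) : ℤ)) (r1 := ((d1 57 : ℕ) : ℤ)) (r2 := ((d2 57 : ℕ) : ℤ)) (r3 := ((d3 57 : ℕ) : ℤ))
      1 0 0 0 (by decide) ?_ m
    have h : nf W A B C₁ D ((d0 57 : ℕ) : ℤ) ((d1 57 : ℕ) : ℤ) ((d2 57 : ℕ) : ℤ) ((d3 57 : ℕ) : ℤ) 0 = B * (D * (D)) := by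
      simp [nf, d0e, d1e, d2e, d3e, pow_two, mul_assoc]
    rw [h]
    exact g_v0102
  · refine rep_all (r0 := ((d0 21 : ℕ) : ℤ)) (r1 := ((d1 21 : ℕ) : ℤ)) (r2 := ((d2 21 : ℕ) : ℤ)) (r3 := ((d3 21 : ℕ) : ℤ))
      1 0 0 0 (by decide) ?_ m
    have h : nf W A B C₁ D ((d0 21 : ℕ) : ℤ) ((d1 21 : ℕ) : ℤ) ((d2 21 : ℕ) : ℤ) ((d3 21 : ℕ) : ℤ) 0 = B * (C₁ * (C₁)) := by
      simp [nf, d0e, d1e, d2e, d3e, pow_two, mul_assoc]
    rw [h]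
    exact g_v0120
  · refine rep_all (r0 := ((d0 55 : ℕ) : ℤ)) (r1 := ((d1 55 : ℕ) : ℤ)) (r2 := ((d2 55 : ℕ) : ℤ)) (r3 := ((d3 55 : ℕ) : ℤ))
      0 (-1) 0 0 (by decide) ?_ m
    have h : nf W A B C₁ D ((d0 55 : ℕ) : ℤ) ((d1 55 : ℕ) : ℤ) ((d2 55 : ℕ) : ℤ) ((d3 55 : ℕ) : ℤ) 0 = A * (D * (D)) := by
      simp [nf, d0e, d1e, d2e, d3e, pow_two, mul_assoc]
    rw [h]
    exact g_v1002
  · refine rep_all (r0 := ((d0 37 : ℕ) : ℤ)) (r1 := ((d1 37 : ℕ) : ℤ)) (r2 := ((d2 37 : ℕ) : ℤ)) (r3 := ((d3 37 : ℕ) : ℤ))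
      0 0 0 (-1) (by decide) ?_ m
    have h : nf W A B C₁ D ((d0 37 : ℕ) : ℤ) ((d1 37 : ℕ) : ℤ) ((d2 37 : ℕ) : ℤ) ((d3 37 : ℕ) : ℤ) 0 = A * (C₁ * (D)) := by
      simp [nf, d0e, d1e, d2e, d3e, pow_two, mul_assoc]
    rw [h]
    exact g_v1011
  · refine rep_all (r0 := ((d0 19 : ℕ) : ℤ)) (r1 := ((d1 19 : ℕ) : ℤ)) (r2 := ((d2 19 : ℕ) : ℤ)) (r3 := ((d3 19 : ℕ) : ℤ))
      0 (-1) 0 0 (by decide) ?_ m
    have h : nf W A B C₁ D ((d0 19 : ℕ) : ℤ) ((d1 19 : ℕ) : ℤ) ((d2 19 : ℕ) : ℤ) ((d3 19 : ℕ) : ℤ) 0 = A * (C₁ * (C₁)) := by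
      simp [nf, d0e, d1e, d2e, d3e, pow_two, mul_assoc]
    rw [h]
    exact g_v1020
  · refine rep_all (r0 := ((d0 64 : ℕ) : ℤ)) (r1 := ((d1 64 : ℕ) : ℤ)) (r2 := ((d2 64 : ℕ) : ℤ)) (r3 := ((d3 64 : ℕ) : ℤ))
      0 0 0 (-1) (by decide) ?_ m
    have h : nf W A B C₁ D ((d0 64 : ℕ) : ℤ) ((d1 64 : ℕ) : ℤ) ((d2 64 : ℕ) : ℤ) ((d3 64 : ℕ) : ℤ) 0 = A * (C₁ * (D * (D))) := by
      simp [nf, d0e, d1e, d2e, d3e, pow_two, mul_assoc]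
    rw [h]
    exact g_v1012
  · refine rep_all (r0 := ((d0 46 : ℕ) : ℤ)) (r1 := ((d1 46 : ℕ) : ℤ)) (r2 := ((d2 46 : ℕ) : ℤ)) (r3 := ((d3 46 : ℕ) : ℤ))
      0 0 1 0 (by decide) ?_ m
    have h : nf W A B C₁ D ((d0 46 : ℕ) : ℤ) ((d1 46 : ℕ) : ℤ) ((d2 46 : ℕ) : ℤ) ((d3 46 : ℕ) : ℤ) 0 = A * (C₁ * (C₁ * (D))) := by
      simp [nf, d0e, d1e, d2e, d3e, pow_two, mul_assoc]
    rw [h]
    exact g_v1021
  · refine rep_all (r0 := ((d0 22 : ℕ) : ℤ)) (r1 := ((d1 22 : ℕ) : ℤ)) (r2 := ((d2 22 : ℕ) : ℤ)) (r3 := ((d3 22 : ℕ) : ℤ))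
      0 (-1) 0 0 (by decide) ?_ m
    have h : nf W A B C₁ D ((d0 22 : ℕ) : ℤ) ((d1 22 : ℕ) : ℤ) ((d2 22 : ℕ) : ℤ) ((d3 22 : ℕ) : ℤ) 0 = A * (B * (C₁ * (C₁))) := by
      simp [nf, d0e, d1e, d2e, d3e, pow_two, mul_assoc]
    rw [h]
    exact g_v1120

/-! ### the coset of `F` -/

theorem nfm {i i' u u' m m' : ℤ} (h1 : (3 : ℤ) ∣ i - i') (h2 : (3 : ℤ) ∣ u - u') (h3 : (3 : ℤ) ∣ m - m') :
    nf W A B C₁ D i 0 u 0 m = nf W A B C₁ D i' 0 u' 0 m' := by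
  unfold nf
  rw [zpow_eq ext.ha h1, zpow_eq ext.hc h2, zpow_eq e_w3 h3]

/-- the central part, `i ≢ 0` -/
theorem norm_i {i u : ℤ} (hi : ¬ (3 : ℤ) ∣ i) (h : V3 (nf W A B C₁ D i 0 u 0 0 * F)) (m : ℤ) :
    V3 (nf W A B C₁ D i 0 u 0 m * F) := by
  have s0 : ∀ m : ℤ, (3 : ℤ) ∣ m → V3 (nf W A B C₁ D i 0 u 0 m * F) := by
    intro m hm
    rw [nfm (i' := i) (u' := u) (m' := 0) (by simp) (by simp) (by simpa using hm)]
    exact h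
  have s1 : ∀ m : ℤ, V3 (nf W A B C₁ D i 0 u 0 (m - i) * F) → V3 (nf W A B C₁ D i 0 u 0 m * F) := by
    intro m hm
    apply V3.of_conj B
    rw [conj_B]
    exact hm
  have h3 : (3 : ℤ) ∣ m ∨ (3 : ℤ) ∣ m - i ∨ (3 : ℤ) ∣ m - i - i := by
    have h4 : i % 3 = 1 ∨ i % 3 = 2 := by omega
    have h5 : m % 3 = 0 ∨ m % 3 = 1 ∨ m % 3 = 2 := by omega
    rcases h4 with h4 | h4 <;> rcases h5 with h5 | h5 | h5 <;> omega
  rcases h3 with h3 | h3 | h3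
  · exact s0 m h3
  · exact s1 m (s0 _ h3)
  · exact s1 m (s1 _ (s0 _ h3))

/-- the central part, `u ≢ 0` -/
theorem norm_u {i u : ℤ} (hu : ¬ (3 : ℤ) ∣ u) (h : V3 (nf W A B C₁ D i 0 u 0 0 * F)) (m : ℤ) :
    V3 (nf W A B C₁ D i 0 u 0 m * F) := by
  have s0 : ∀ m : ℤ, (3 : ℤ) ∣ m → V3 (nf W A B C₁ D i 0 u 0 m * F) := by
    intro m hm
    rw [nfm (i' := i) (u' := u) (m' := 0) (by simp) (by simp) (by simpa using hm)]
    exact h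
  have s1 : ∀ m : ℤ, V3 (nf W A B C₁ D i 0 u 0 (m - u) * F) → V3 (nf W A B C₁ D i 0 u 0 m * F) := by
    intro m hm
    apply V3.of_conj D
    rw [conj_D]
    exact hm
  have h3 : (3 : ℤ) ∣ m ∨ (3 : ℤ) ∣ m - u ∨ (3 : ℤ) ∣ m - u - u := by
    have h4 : u % 3 = 1 ∨ u % 3 = 2 := by omega
    have h5 : m % 3 = 0 ∨ m % 3 = 1 ∨ m % 3 = 2 := by omega
    rcases h4 with h4 | h4 <;> rcases h5 with h5 | h5 | h5 <;> omega
  rcases h3 with h3 | h3 | h3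
  · exact s0 m h3
  · exact s1 m (s0 _ h3)
  · exact s1 m (s1 _ (s0 _ h3))

/-- signs -/
theorem sign {i u m : ℤ} (h : V3 (nf W A B C₁ D (-i) 0 (-u) 0 m * F)) : V3 (nf W A B C₁ D i 0 u 0 m * F) := by
  apply V3.of_conj S
  rw [conj_S]
  exact h

theorem good_AF : V3 (nf W A B C₁ D 1 0 0 0 0 * F) := by
  intro h
  exfalso
  apply Ta.ne_AF
  have h1 : nf W A B C₁ D 1 0 0 0 0 = A := by simp [nf]
  rwa [h1] at h

theorem good_CF : V3 (nf W A B C₁ D 0 0 1 0 0 * F) := by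
  intro h
  exfalso
  apply Ta.ne_CF
  have h1 : nf W A B C₁ D 0 0 1 0 0 = C₁ := by simp [nf]
  rwa [h1] at h

theorem good_ACF : V3 (nf W A B C₁ D 1 0 1 0 0 * F) := by
  have h1 : nf W A B C₁ D 1 0 1 0 0 = A * C₁ := by simp [nf]
  rw [h1, mul_assoc]
  exact g_ACF

theorem good_ACCF : V3 (nf W A B C₁ D 1 0 2 0 0 * F) := by
  have h1 : nf W A B C₁ D 1 0 2 0 0 * F = A * (C₁ * (C₁ * F)) := by
    simp only [nf, zpow_one, zpow_zero, mul_one, zpow_ofNat, pow_two, pow_one, pow_zero, one_mul, mul_assoc]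
  rw [h1]
  exact g_ACCF

theorem good_m (m : ℤ) : V3 (nf W A B C₁ D 0 0 0 0 m * F) := by
  have h3 : (3 : ℤ) ∣ m - 0 ∨ (3 : ℤ) ∣ m - 1 ∨ (3 : ℤ) ∣ m - 2 := by omega
  rcases h3 with h | h | h
  · rw [nfm (i' := 0) (u' := 0) (m' := 0) (by simp) (by simp) h]
    have h1 : nf W A B C₁ D 0 0 0 0 0 = 1 := nf_zero
    rw [h1, one_mul]
    exact g_F
  · rw [nfm (i' := 0) (u' := 0) (m' := 1) (by simp) (by simp) h]
    have h1 : nf W A B C₁ D 0 0 0 0 1 = W := by simp [nf]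
    rw [h1]
    exact g_WF
  · rw [nfm (i' := 0) (u' := 0) (m' := 2) (by simp) (by simp) h]
    have h1 : nf W A B C₁ D 0 0 0 0 2 * F = W * (W * F) := by
      simp only [nf, zpow_zero, one_mul, zpow_ofNat, pow_two, pow_zero, mul_assoc]
    rw [h1]
    exact g_WWF

theorem good_iu (i u m : ℤ) : V3 (nf W A B C₁ D i 0 u 0 m * F) := by
  have key : ∀ i' u' : ℤ, (3 : ℤ) ∣ i - i' → (3 : ℤ) ∣ u - u' → (∀ m, V3 (nf W A B C₁ D i' 0 u' 0 m * F)) →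
      V3 (nf W A B C₁ D i 0 u 0 m * F) := by
    intro i' u' h1 h2 h
    rw [nfm h1 h2 (m' := m) (by simp)]
    exact h m
  have hi : (3 : ℤ) ∣ i - 0 ∨ (3 : ℤ) ∣ i - 1 ∨ (3 : ℤ) ∣ i - (-1) := by omega
  have hu : (3 : ℤ) ∣ u - 0 ∨ (3 : ℤ) ∣ u - 1 ∨ (3 : ℤ) ∣ u - (-1) := by omega
  have a10 := norm_i (i := 1) (u := 0) (by norm_num) good_AF
  have a01 := norm_u (i := 0) (u := 1) (by norm_num) good_CF
  have a11 := norm_i (i := 1) (u := 1) (by norm_num) (good_ACF)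
  have a12 := norm_i (i := 1) (u := 2) (by norm_num) (good_ACCF)
  rcases hi with hi | hi | hi <;> rcases hu with hu | hu | hu
  · exact key 0 0 hi hu (good_m)
  · exact key 0 1 hi hu a01
  · exact key 0 (-1) hi hu fun m => sign (by simpa using a01 m)
  · exact key 1 0 hi hu a10
  · exact key 1 1 hi hu a11
  · exact key 1 2 hi (by omega) a12
  · exact key (-1) 0 hi hu fun m => sign (by simpa using a10 m)
  · exact key (-1) (-2) hi (by omega) fun m => sign (by simpa using a12 m)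
  · exact key (-1) (-1) hi hu fun m => sign (by simpa using a11 m)

theorem goodF {q : Spor.HN} (hq : q ∈ ext.Q) : V3 (q * F) := by
  obtain ⟨i, j, u, l, m, rfl⟩ := hq
  have hl : ∀ i u m l : ℤ, V3 (nf W A B C₁ D i 0 u l m * F) := by
    intro i u m l
    have s0 : ∀ l m : ℤ, (3 : ℤ) ∣ l → V3 (nf W A B C₁ D i 0 u l m * F) := by
      intro l m h
      rw [nf_mod (j' := 0) (l' := 0) (by simp) (by simpa using h)]
      exact good_iu i u m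
    have s1 : ∀ l m : ℤ, (∀ m, V3 (nf W A B C₁ D i 0 u (l - 2) m * F)) → V3 (nf W A B C₁ D i 0 u l m * F) := by
      intro l m h
      apply V3.of_conj C₁
      obtain ⟨m', hm⟩ := conj_C i 0 u l m
      rw [hm]
      exact h m'
    have h3 : (3 : ℤ) ∣ l ∨ (3 : ℤ) ∣ l - 2 ∨ (3 : ℤ) ∣ (l - 2) - 2 := by omega
    rcases h3 with h | h | h
    · exact s0 l m h
    · exact s1 l m fun m => s0 _ m h
    · exact s1 l m fun m => s1 _ m fun m => s0 _ m h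
  have s0 : ∀ j m : ℤ, (3 : ℤ) ∣ j → V3 (nf W A B C₁ D i j u l m * F) := by
    intro j m h
    rw [nf_mod (j' := 0) (l' := l) (by simpa using h) (by simp)]
    exact hl i u m l
  have s1 : ∀ j m : ℤ, (∀ m, V3 (nf W A B C₁ D i (j - 1) u l m * F)) → V3 (nf W A B C₁ D i j u l m * F) := by
    intro j m h
    apply V3.of_conj A
    obtain ⟨m', hm⟩ := conj_A i j u l m
    rw [hm]
    exact h m'
  have h3 : (3 : ℤ) ∣ j ∨ (3 : ℤ) ∣ j - 1 ∨ (3 : ℤ) ∣ (j - 1) - 1 := by omega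
  rcases h3 with h | h | h
  · exact s0 j m h
  · exact s1 j m fun m => s0 _ m h
  · exact s1 j m fun m => s1 _ m fun m => s0 _ m h

theorem good_W (m : ℤ) (hm : W ^ m ≠ 1) : V3 (W ^ m) := by
  have h3 : (3 : ℤ) ∣ m - 0 ∨ (3 : ℤ) ∣ m - 1 ∨ (3 : ℤ) ∣ m - (-1) := by omega
  rcases h3 with h | h | h
  · exact absurd (by rw [zpow_eq e_w3 h, zpow_zero]) hm
  · rw [zpow_eq e_w3 h, zpow_one]
    exact g_W
  · rw [zpow_eq e_w3 h]
    apply V3.of_sq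
    have h1 : (W ^ (-1 : ℤ)) ^ 2 = W := by
      rw [← zpow_natCast, ← zpow_mul, zpow_eq e_w3 (j := 1) (by norm_num), zpow_one]
    rw [h1]
    exact g_W

/-- **elements of order `3` are good** -/
theorem wit_3 (x : Spor.HN) (hx : orderOf x = 3) : Wit x := by
  have hx3 : x ^ 3 = 1 := by rw [← hx]; exact pow_orderOf_eq_one x
  obtain ⟨g, hg⟩ := Cfsg.Agent.H478.RadHeis.exists_conj_mem isPGroup_P index_P hx3
  have hgx3 : (g * x * g⁻¹) ^ 3 = 1 := by rw [conj_pow, hx3, mul_one, mul_inv_cancel]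
  have hgx1 : g * x * g⁻¹ ≠ 1 := by
    intro h
    rw [conj_eq_one_iff] at h
    rw [h, orderOf_one] at hx
    omega
  apply Wit.of_conj g
  suffices h : V3 (g * x * g⁻¹) from h hgx3
  obtain ⟨q, hq, s, hs⟩ := hg
  rw [hs] at hgx1 ⊢
  have h3 : (3 : ℤ) ∣ s - 0 ∨ (3 : ℤ) ∣ s - 1 ∨ (3 : ℤ) ∣ s - (-1) := by omega
  rcases h3 with h | h | h
  · rw [zpow_eq e_f3 h, zpow_zero, mul_one] at hgx1 ⊢
    obtain ⟨i, j, u, l, m, rfl⟩ := hq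
    obtain ⟨v, hv, he⟩ := exists_code i j u l m
    rw [he] at hgx1 ⊢
    by_cases h0 : v = 0
    · subst h0
      have h2 : nv 0 m = W ^ m := by simp [nv, nf, d0e, d1e, d2e, d3e]
      rw [h2] at hgx1 ⊢
      exact good_W m hgx1
    · exact goodQ v hv h0 m
  · rw [zpow_eq e_f3 h, zpow_one]
    exact goodF hq
  · rw [zpow_eq e_f3 h, zpow_neg_one]
    apply V3.of_sq
    -- `(q F⁻¹)² = q (F⁻¹ q F) F⁻²`, `F⁻² = F`
    have h1 : (q * F⁻¹) ^ 2 = (q * (F * (F * q * F⁻¹) * F⁻¹)) * F := by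
      have h2 : F⁻¹ = F * F := by rw [eq_comm, sq_eq e_f3]
      calc (q * F⁻¹) ^ 2 = q * F⁻¹ * q * F⁻¹ := by rw [pow_two]; simp only [mul_assoc]
        _ = q * (F * F) * q * F⁻¹ := congrArg (fun y => q * y * q * F⁻¹) h2
        _ = _ := by group
    rw [h1]
    exact goodF (mul_mem hq (F_Q _ (F_Q _ hq)))

end

/-- **the elements of order `2`, `3`, `5`** -/
theorem wit_small {x : Spor.HN} (h : orderOf x = 2 ∨ orderOf x = 3 ∨ orderOf x = 5) : Wit x := by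
  rcases h with h | h | h
  · exact wit_2 h
  · exact wit_3 x h
  · exact wit_5 h

end Cfsg.Agent.H315.TcHN
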